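import Cfsg.Agent.R2.T2.Alg.Pow
import Cfsg.Agent.R2.T1.Inf.LCnt

/-!
# S5929: annihilators of vectors in the Lie algebra of type `E₇` (helper4)

* `tri` : lowest terms; `card_ann` : the annihilator of a non-zero vector has at most `q ^ 105` elements;
* `card_ker` : the number of elements of the Lie algebra with a kernel of dimension at least 32.
-/

set_option autoImplicit false
set_option maxRecDepth 100000

namespace Cfsg.Agent.R2.T2.Alg

open Cfsg Cfsg.Lie Matrix Module
open Cfsg.Agent.ChevalleyStructure.RootVec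
open Cfsg.Agent.R2.T1 Cfsg.Agent.R2.PX Cfsg.Agent.R2.T1.Mu
open Cfsg.Agent.H943.E7V.Block (D1 rho)

universe u

/-- the root vectors preserve the order of the weights -/
theorem chkMono : ((List.range 126).all fun r => let l := T56.getD r []
    l.all fun x => l.all fun y => !(Nat.blt x.1 y.1) || Nat.blt x.2.1 y.2.1) = true := by decide +kernel

theorem mono {r : ℕ} (hr : r < 126) {a b a' b' : D1} {c c' : ℤ} (h : mv r (nn b) = some (nn a, c))
    (h' : mv r (nn b') = some (nn a', c')) (hlt : nn b < nn b') : nn a < nn a' := by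
  have h1 := List.all_eq_true.1 (List.all_eq_true.1 (List.all_eq_true.1 chkMono r (List.mem_range.2 hr)) _
    (Comb.row_mem h)) _ (Comb.row_mem h')
  rw [Bool.or_eq_true, Bool.not_eq_true'] at h1
  rcases h1 with h1 | h1
  · have h2 : Nat.blt (nn b) (nn b') = true := by rwa [Nat.blt_eq]
    rw [h2] at h1
    exact absurd h1 (by simp)
  · rwa [Nat.blt_eq] at h1

theorem chk27 : (W56.all fun b => Nat.beq ((List.range 126).filter fun r => (mv r b).isSome).length 27) = true := by
  decide +kernel

theorem chkI : (W56.all fun b => (List.range 7).any fun i =>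
    decide (chevE8.cartan i b = 1) || decide (chevE8.cartan i b = -1)) = true := by decide +kernel

theorem exists_i (b : D1) : ∃ i : Fin chevE7.rank, chevE8.cartan i (nn b) = 1 ∨ chevE8.cartan i (nn b) = -1 := by
  obtain ⟨i, hi, h⟩ := List.any_eq_true.1 (List.all_eq_true.1 chkI (nn b) (nn_mem b))
  exact ⟨⟨i, List.mem_range.1 hi⟩, by simpa using h⟩

section
variable {F : Type u} [Field F]

theorem del_diag (z : chevE7.Idx → F) (b : D1) : del F z b b =
    ∑ i : Fin chevE7.rank, z (Sum.inl i) * ((chevE8.cartan i (nn b) : ℤ) : F) := by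
  rw [del_apply, Matrix.add_apply, Matrix.sum_apply, Matrix.sum_apply]
  have e : ∑ c : Fin chevE7.nroots, (z (Sum.inr c) • NM F (c : ℕ)) b b = 0 := by
    refine Finset.sum_eq_zero fun s _ => ?_
    rw [Matrix.smul_apply, smul_eq_mul]
    show _ * ((nz s b b : ℤ) : F) = 0
    rw [nz_diag s.2, Int.cast_zero, mul_zero]
  rw [e, add_zero]
  refine Finset.sum_congr rfl fun i _ => ?_
  rw [Matrix.smul_apply, Hi, Matrix.diagonal_apply_eq, smul_eq_mul]

theorem del_off {z : chevE7.Idx → F} {a b : D1} (hab : a ≠ b) (h : del F z a b ≠ 0) :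
    ∃ (s : Fin chevE7.nroots) (c : ℤ), mv s (nn b) = some (nn a, c) ∧ z (Sum.inr s) ≠ 0 := by
  by_contra hno
  push Not at hno
  apply h
  rw [del_apply, Matrix.add_apply, Matrix.sum_apply, Matrix.sum_apply, Finset.sum_eq_zero, zero_add]
  · refine Finset.sum_eq_zero fun s _ => ?_
    rw [Matrix.smul_apply, smul_eq_mul]
    show _ * ((nz s a b : ℤ) : F) = 0
    by_cases h0 : nz s a b = 0
    · rw [h0, Int.cast_zero, mul_zero]
    · obtain ⟨c, h1, -⟩ := nz_ne h0
      rw [hno s c h1, zero_mul]
  · intro i _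
    rw [Matrix.smul_apply, Hi, Matrix.diagonal_apply_ne _ hab, smul_zero]

/-- **lowest terms** -/
theorem tri {z : chevE7.Idx → F} {u : D1 → F} {b0 : D1} (hb0 : u b0 ≠ 0) (hlow : ∀ b, nn b < nn b0 → u b = 0)
    {i0 : Fin chevE7.rank} (hi0 : chevE8.cartan i0 (nn b0) = 1 ∨ chevE8.cartan i0 (nn b0) = -1)
    (hz1 : ∀ i, i ≠ i0 → z (Sum.inl i) = 0)
    (hz2 : ∀ r : Fin chevE7.nroots, mv r (nn b0) = none → z (Sum.inr r) = 0) (h : del F z *ᵥ u = 0) : z = 0 := by
  classical
  have hci : ((chevE8.cartan i0 (nn b0) : ℤ) : F) ≠ 0 := by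
    rcases hi0 with h | h <;> rw [h] <;> simp
  by_contra hz0
  set T : Finset D1 := Finset.univ.filter fun a =>
    (∃ (r : Fin chevE7.nroots) (c : ℤ), mv r (nn b0) = some (nn a, c) ∧ z (Sum.inr r) ≠ 0) ∨ (a = b0 ∧ z (Sum.inl i0) ≠ 0)
    with hT
  have hTne : T.Nonempty := by
    obtain ⟨j, hj⟩ : ∃ j, z j ≠ 0 := by
      by_contra hno
      push Not at hno
      exact hz0 (funext hno)
    rcases j with i | s
    · have hi : i = i0 := by
        by_contra hne
        exact hj (hz1 i hne)
      subst hi
      exact ⟨b0, Finset.mem_filter.2 ⟨Finset.mem_univ _, Or.inr ⟨rfl, hj⟩⟩⟩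
    · rcases mv_spec (r := s) s.2 b0 with h1 | ⟨a, c, h1, -, -, -⟩
      · exact absurd (hz2 s h1) hj
      · exact ⟨a, Finset.mem_filter.2 ⟨Finset.mem_univ _, Or.inl ⟨s, c, h1, hj⟩⟩⟩
  obtain ⟨a0, ha0, hmin⟩ := Finset.exists_min_image T (fun a => nn a) hTne
  have hcoord := congrFun h a0
  rw [Matrix.mulVec, dotProduct, Finset.sum_eq_single b0] at hcoord
  · have hcoord' : del F z a0 b0 * u b0 = 0 := hcoord
    have h1 := (mul_eq_zero.1 hcoord').resolve_right hb0
    rcases (Finset.mem_filter.1 ha0).2 with ⟨r, c, h3, h4⟩ | ⟨h3, h4⟩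
    · have hc : c * c = 1 := by
        rcases mv_spec (r := r) r.2 b0 with h5 | ⟨a', c', h5, h6, -⟩
        · rw [h5] at h3; exact absurd h3 (by simp)
        · rw [h5, Option.some.injEq, Prod.mk.injEq] at h3
          rw [← h3.2]
          exact h6
      rw [del_entry z r.2 h3] at h1
      exact (mul_ne_zero h4 (cast_ne hc)) h1
    · subst h3
      rw [del_diag, Finset.sum_eq_single i0] at h1
      · exact (mul_ne_zero h4 hci) h1
      · intro i _ hi
        rw [hz1 i hi, zero_mul]
      · intro h5; exact absurd (Finset.mem_univ _) h5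
  · intro b _ hb
    by_contra hne
    have hu : u b ≠ 0 := right_ne_zero_of_mul hne
    have hd : del F z a0 b ≠ 0 := left_ne_zero_of_mul hne
    have hlt : nn b0 < nn b := by
      by_contra hle
      rcases lt_or_eq_of_le (not_lt.1 hle) with h5 | h5
      · exact hu (hlow b h5)
      · exact hb (nn_inj h5)
    by_cases hab : a0 = b
    · subst hab
      rw [del_diag] at hd
      have h5 : z (Sum.inl i0) ≠ 0 := by
        intro h6
        apply hd
        refine Finset.sum_eq_zero fun i _ => ?_
        by_cases hi : i = i0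
        · rw [hi, h6, zero_mul]
        · rw [hz1 i hi, zero_mul]
      have h6 := hmin b0 (Finset.mem_filter.2 ⟨Finset.mem_univ _, Or.inr ⟨rfl, h5⟩⟩)
      exact absurd (lt_of_lt_of_le hlt h6) (lt_irrefl _)
    · obtain ⟨s, c, h5, h6⟩ := del_off hab hd
      rcases mv_spec (r := s) s.2 b0 with h7 | ⟨a', c', h7, -, -, -⟩
      · exact h6 (hz2 s h7)
      · have h8 := mono s.2 h7 h5 hlt
        have h9 := hmin a' (Finset.mem_filter.2 ⟨Finset.mem_univ _, Or.inl ⟨s, c', h7, h6⟩⟩)
        exact absurd (lt_of_lt_of_le h8 h9) (lt_irrefl _)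
  · intro h5; exact absurd (Finset.mem_univ _) h5

end

/-! ### counting -/

theorem card_forget {ι F : Type*} [Fintype ι] [DecidableEq ι] [Finite F] (P : Finset ι) (S : Set (ι → F))
    (hinj : ∀ x ∈ S, ∀ y ∈ S, (∀ j, j ∉ P → x j = y j) → x = y) :
    Nat.card S ≤ Nat.card F ^ (Fintype.card ι - P.card) := by
  have h1 : Nat.card ({j : ι // j ∉ P} → F) = Nat.card F ^ (Fintype.card ι - P.card) := by
    rw [Nat.card_fun, Nat.card_eq_fintype_card (α := {j : ι // j ∉ P})]
    congr 1
    rw [Fintype.card_subtype_compl, Fintype.card_coe]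
  rw [← h1]
  refine Nat.card_le_card_of_injective (fun (x : S) (j : {j : ι // j ∉ P}) => (x : ι → F) j) ?_
  intro x y hxy
  exact Subtype.ext (hinj x x.2 y y.2 fun j hj => congrFun hxy ⟨j, hj⟩)

theorem card_Idx : Fintype.card chevE7.Idx = 133 := by
  rw [Fintype.card_sum, Fintype.card_fin, Fintype.card_fin]
  rfl

/-- the 27 roots moving the weight, and one coroot -/
noncomputable def PA (b : D1) (i : Fin chevE7.rank) : Finset chevE7.Idx :=
  (Finset.univ.filter fun r : Fin chevE7.nroots => (mv r (nn b)).isSome).map ⟨Sum.inr, Sum.inr_injective⟩ ∪ {Sum.inl i}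

theorem card_PA (b : D1) (i : Fin chevE7.rank) : (PA b i).card = 28 := by
  unfold PA
  rw [Finset.card_union_of_disjoint, Finset.card_map, Finset.card_singleton]
  · have h1 := Nat.eq_of_beq_eq_true (List.all_eq_true.1 chk27 (nn b) (nn_mem b))
    have h2 : ∀ (n : ℕ) (f : ℕ → Bool), (Finset.univ.filter fun r : Fin n => f r).card = ((List.range n).filter f).length := by
      intro n f
      have e1 : (Finset.univ.filter fun r : Fin n => f r = true) =
          (Finset.univ.filter fun r : Fin n => f r = true) := rfl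
      rw [← Finset.card_map ⟨fun r : Fin n => (r : ℕ), Fin.val_injective⟩]
      have e2 : (Finset.univ.filter fun r : Fin n => f r).map ⟨fun r : Fin n => (r : ℕ), Fin.val_injective⟩ =
          ((List.range n).filter f).toFinset := by
        ext k
        simp only [Finset.mem_map, Finset.mem_filter, Finset.mem_univ, true_and, Function.Embedding.coeFn_mk,
          List.mem_toFinset, List.mem_filter, List.mem_range]
        constructor
        · rintro ⟨r, h, rfl⟩
          exact ⟨r.2, h⟩
        · rintro ⟨h, h'⟩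
          exact ⟨⟨k, h⟩, h', rfl⟩
      rw [e2, List.toFinset_card_of_nodup (List.Nodup.filter _ List.nodup_range)]
    have h3 := h2 126 (fun r => (mv r (nn b)).isSome)
    rw [h1] at h3
    have h4 : (Finset.univ.filter fun r : Fin chevE7.nroots => (mv r (nn b)).isSome = true).card = 27 := h3
    rw [h4]
  · rw [Finset.disjoint_singleton_right, Finset.mem_map]
    rintro ⟨r, -, h⟩
    exact absurd h (by simp)

section
variable {F : Type u} [Field F] [Finite F]

/-- **the annihilator of a non-zero vector** -/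
theorem card_ann {u : D1 → F} (hu : u ≠ 0) :
    Nat.card {z : chevE7.Idx → F | del F z *ᵥ u = 0} ≤ Nat.card F ^ 105 := by
  classical
  have hTne : (Finset.univ.filter fun b => u b ≠ 0).Nonempty := by
    by_contra hno
    rw [Finset.not_nonempty_iff_eq_empty, Finset.filter_eq_empty_iff] at hno
    exact hu (funext fun b => not_not.1 (hno (Finset.mem_univ b)))
  obtain ⟨b0, hb0, hmin⟩ := Finset.exists_min_image _ (fun b => nn b) hTne
  obtain ⟨i0, hi0⟩ := exists_i b0
  have h1 := card_forget (PA b0 i0) {z : chevE7.Idx → F | del F z *ᵥ u = 0} (by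
    intro x hx y hy hxy
    have hx' : del F x *ᵥ u = 0 := hx
    have hy' : del F y *ᵥ u = 0 := hy
    rw [← sub_eq_zero]
    refine tri (b0 := b0) (i0 := i0) (u := u) (Finset.mem_filter.1 hb0).2 ?_ hi0 ?_ ?_ ?_
    · intro b hb
      by_contra hne
      exact absurd (lt_of_lt_of_le hb (hmin b (Finset.mem_filter.2 ⟨Finset.mem_univ _, hne⟩))) (lt_irrefl _)
    · intro i hi
      rw [Pi.sub_apply, hxy, sub_self]
      unfold PA
      rw [Finset.mem_union, Finset.mem_map, Finset.mem_singleton, not_or]
      refine ⟨?_, fun h => hi (Sum.inl_injective h)⟩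
      rintro ⟨r, -, h⟩
      exact absurd h (by simp)
    · intro r hr
      rw [Pi.sub_apply, hxy, sub_self]
      unfold PA
      rw [Finset.mem_union, Finset.mem_map, Finset.mem_singleton, not_or]
      refine ⟨?_, by simp⟩
      rintro ⟨r', h3, h⟩
      have h4 : r' = r := Sum.inr_injective h
      rw [h4, Finset.mem_filter, hr] at h3
      exact absurd h3.2 (by simp)
    · rw [map_sub, Matrix.sub_mulVec, hx', hy', sub_zero])
  rwa [card_PA, card_Idx] at h1

theorem card_D1 : Fintype.card D1 = 56 := by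
  have h := sumD1 (fun _ => 1)
  rw [Finset.sum_const, Finset.card_univ, smul_eq_mul, mul_one] at h
  rw [h]
  decide

/-- the double count -/
theorem sum_ker : (∑ᶠ z : chevE7.Idx → F, Nat.card {u : D1 → F // del F z *ᵥ u = 0}) ≤
    Nat.card F ^ 133 + Nat.card F ^ 161 := by
  classical
  haveI := Fintype.ofFinite F
  rw [finsum_eq_sum_of_fintype]
  have e1 : ∑ z : chevE7.Idx → F, Nat.card {u : D1 → F // del F z *ᵥ u = 0} =
      ∑ u : D1 → F, Nat.card {z : chevE7.Idx → F // del F z *ᵥ u = 0} := by
    simp only [Nat.card_eq_fintype_card, Fintype.card_subtype, Finset.card_eq_sum_ones, Finset.sum_filter]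
    exact Finset.sum_comm
  rw [e1, ← Finset.add_sum_erase _ _ (Finset.mem_univ (0 : D1 → F))]
  refine Nat.add_le_add ?_ ?_
  · have e2 : Nat.card {z : chevE7.Idx → F // del F z *ᵥ (0 : D1 → F) = 0} ≤ Nat.card (chevE7.Idx → F) :=
      Nat.card_le_card_of_injective _ Subtype.val_injective
    have e3 : Nat.card (chevE7.Idx → F) = Nat.card F ^ 133 := by
      rw [Nat.card_fun, Nat.card_eq_fintype_card (α := chevE7.Idx), card_Idx]
    rw [← e3]
    exact e2
  · have e3 : Nat.card (D1 → F) = Nat.card F ^ 56 := by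
      rw [Nat.card_fun, Nat.card_eq_fintype_card (α := D1), card_D1]
    calc ∑ u ∈ Finset.univ.erase (0 : D1 → F), Nat.card {z : chevE7.Idx → F // del F z *ᵥ u = 0}
        ≤ ∑ u ∈ Finset.univ.erase (0 : D1 → F), Nat.card F ^ 105 :=
          Finset.sum_le_sum fun u hu => card_ann (Finset.ne_of_mem_erase hu)
      _ ≤ Nat.card F ^ 56 * Nat.card F ^ 105 := by
          rw [Finset.sum_const, smul_eq_mul]
          refine Nat.mul_le_mul_right _ ?_
          rw [← e3, Nat.card_eq_fintype_card, ← Finset.card_univ]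
          exact Finset.card_le_card (Finset.erase_subset _ _)
      _ = _ := by rw [← pow_add]

/-- **elements with a large kernel** -/
theorem card_ker : Nat.card {z : chevE7.Idx → F // 32 ≤ finrank F (LinearMap.ker (Matrix.toLin' (del F z)))} *
    Nat.card F ^ 32 ≤ Nat.card F ^ 133 + Nat.card F ^ 161 := by
  classical
  haveI := Fintype.ofFinite F
  refine le_trans ?_ (sum_ker (F := F))
  rw [finsum_eq_sum_of_fintype, Nat.card_eq_fintype_card, Fintype.card_subtype]
  calc (Finset.univ.filter fun z : chevE7.Idx → F => 32 ≤ finrank F (LinearMap.ker (Matrix.toLin' (del F z)))).card *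
        Nat.card F ^ 32 = ∑ z ∈ Finset.univ.filter fun z : chevE7.Idx → F =>
          32 ≤ finrank F (LinearMap.ker (Matrix.toLin' (del F z))), Nat.card F ^ 32 := by
        rw [Finset.sum_const, smul_eq_mul]
    _ ≤ ∑ z ∈ Finset.univ.filter fun z : chevE7.Idx → F =>
          32 ≤ finrank F (LinearMap.ker (Matrix.toLin' (del F z))), Nat.card {u : D1 → F // del F z *ᵥ u = 0} := by
        refine Finset.sum_le_sum fun z hz => ?_
        have h1 := (Finset.mem_filter.1 hz).2
        have h2 : Nat.card {u : D1 → F // del F z *ᵥ u = 0} =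
            Nat.card F ^ finrank F (LinearMap.ker (Matrix.toLin' (del F z))) := by
          rw [← Module.natCard_eq_pow_finrank (K := F)]
          refine Nat.card_congr (Equiv.subtypeEquivRight fun u => ?_)
          rw [LinearMap.mem_ker, Matrix.toLin'_apply]
        rw [h2]
        exact Nat.pow_le_pow_right Nat.card_pos h1
    _ ≤ _ := Finset.sum_le_sum_of_subset (Finset.filter_subset _ _)

end

end Cfsg.Agent.R2.T2.Alg
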