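import Cfsg.Agent.R2.T1.Mu.Equ

/-!
# S5929: conjugation on the Lie algebra of type `E₇`, every characteristic (helper4)

* `csM_NM'` : `[e_r, e_s] e_r = 0` on the 56-dimensional module, over every field;
* `del_equi'`, `del_L'` : `del F (L F g z) = rho F g * del F z * rho F g⁻¹`, over every field.
-/

set_option autoImplicit false
set_option maxRecDepth 100000

namespace Cfsg.Agent.R2.T2.Alg

open Cfsg Cfsg.Lie Matrix
open Cfsg.Agent.R2.T1 Cfsg.Agent.R2.PX Cfsg.Agent.R2.T1.Mu
open Cfsg.Agent.H943.E7V.Block (D1 rho)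

universe u
variable {F : Type u} [Field F]

/-- the second commutator vanishes, over every field -/
theorem csM_NM' {r s : ℕ} (hr : r < 126) (hs : s < 126) (hne : s ≠ 125 - r) : csM F r s * NM F r = 0 := by
  rcases h : cs r s with _ | ⟨u, c⟩
  · unfold csM
    rw [h]
    dsimp only
    rw [Matrix.zero_mul]
  · have hc : c ≠ 0 := by
      unfold cs at h
      by_cases h0 : lk (PC.getD r 0) s = 0
      · rw [if_pos h0] at h; exact absurd h (by simp)
      rw [if_neg h0, Option.some.injEq, Prod.mk.injEq] at h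
      rw [← h.2]
      split_ifs <;> decide
    have h1 := csM_NM (F := ℚ) (by norm_num) hr hs hne
    unfold csM at h1
    rw [h] at h1
    dsimp only at h1
    rw [Matrix.smul_mul] at h1
    have h2 : NM ℚ u * NM ℚ r = 0 := (smul_eq_zero.1 h1).resolve_left (Int.cast_ne_zero.2 hc)
    have h3 : NZ u * NZ r = 0 := by
      apply map_inj_rat
      rw [Matrix.map_mul, NZ_map, NZ_map, h2, Matrix.map_zero _ (map_zero _)]
    have h4 : NM F u * NM F r = 0 := by
      rw [← NZ_map, ← NZ_map, ← Matrix.map_mul, h3, Matrix.map_zero _ (map_zero _)]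
    unfold csM
    rw [h]
    dsimp only
    rw [Matrix.smul_mul, h4, smul_zero]

theorem del_x_basis' {r : ℕ} (hr : r < 126) (t : F) (j : chevE7.Idx) :
    (1 + t • NM F r) * del F (Pi.single j 1) = del F (chevE7.x F r t *ᵥ Pi.single j 1) * (1 + t • NM F r) := by
  have hsq := NM_mul_self (F := F) hr
  rcases j with i | ⟨s, hs⟩
  · rw [del_inl, del_x_inl hr, PX.one_add_mul, PX.mul_one_add, Matrix.sub_mul, Matrix.smul_mul, hsq, smul_zero, sub_zero]
    have h1 := Hi_comm (F := F) hr i.2
    have h3 : Hi F i * NM F r = NM F r * Hi F i + ((chevE7.cartan i r : ℤ) : F) • NM F r := by rw [← h1]; abel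
    rw [h3, smul_add, smul_smul, mul_comm t]
    abel
  · have hs' : s < 126 := hs
    rw [del_inr]
    show (1 + t • NM F r) * NM F s = _
    by_cases h3 : s = r
    · subst h3
      rw [del_x_self hr, PX.one_add_mul, PX.mul_one_add]
    by_cases h4 : s = 125 - r
    · subst h4
      rw [del_x_neg hr, PX.one_add_mul, PX.mul_one_add, Matrix.sub_mul, Matrix.add_mul, Matrix.smul_mul, Matrix.smul_mul, hsq,
        smul_zero, sub_zero, Hd_NM hr]
      have h5 : NM F r * NM F (125 - r) = NM F (125 - r) * NM F r + Hd F r := by rw [← NM_comm_neg hr]; abel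
      rw [h5, smul_add, smul_add, smul_smul, pow_two]
      abel
    · rw [del_x_inr hr hs' h4 h3, PX.one_add_mul, PX.mul_one_add, Matrix.add_mul, Matrix.smul_mul, csM_NM' hr hs' h4,
        smul_zero, add_zero, ← NM_comm hr hs' h4, smul_sub]
      abel

theorem del_x' {r : ℕ} (hr : r < 126) (t : F) (z : chevE7.Idx → F) :
    (1 + t • NM F r) * del F z = del F (chevE7.x F r t *ᵥ z) * (1 + t • NM F r) := by
  have hz : z = ∑ j, z j • (Pi.single j (1 : F) : chevE7.Idx → F) := by
    ext k
    simp [Finset.sum_apply, Pi.single_apply]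
  have h1 : del F (chevE7.x F r t *ᵥ z) = ∑ j, z j • del F (chevE7.x F r t *ᵥ Pi.single j 1) := by
    conv_lhs => rw [hz]
    rw [Matrix.mulVec_sum, map_sum]
    refine Finset.sum_congr rfl fun j _ => ?_
    rw [Matrix.mulVec_smul, map_smul]
  have h3 : del F z = ∑ j, z j • del F (Pi.single j 1) := by
    conv_lhs => rw [hz]
    rw [map_sum]
    exact Finset.sum_congr rfl fun j _ => map_smul _ _ _
  rw [h1, h3, Finset.mul_sum, Finset.sum_mul]
  refine Finset.sum_congr rfl fun j _ => ?_
  rw [Matrix.mul_smul, Matrix.smul_mul, del_x_basis' hr]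

/-- **equivariance, over every field** -/
theorem del_equi' (g : Gh F) (z : chevE7.Idx → F) : rho F g * del F z = del F (adM F g *ᵥ z) * rho F g := by
  have h := mem_of_gens (F := F) (S :=
    { carrier := {g | ∀ z : chevE7.Idx → F, rho F g * del F z = del F (adM F g *ᵥ z) * rho F g}
      one_mem' := fun z => by rw [map_one, map_one, Matrix.one_mulVec, Matrix.one_mul, Matrix.mul_one]
      mul_mem' := by
        intro a b ha hb z
        rw [map_mul, map_mul, Matrix.mul_assoc, hb z, ← Matrix.mul_assoc, ha, ← Matrix.mulVec_mulVec, Matrix.mul_assoc]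
      inv_mem' := by
        intro a ha z
        have h1 := ha (adM F a⁻¹ *ᵥ z)
        rw [Matrix.mulVec_mulVec, ← map_mul, mul_inv_cancel, map_one, Matrix.one_mulVec] at h1
        have h3 : rho F a⁻¹ * rho F a = 1 := by rw [← map_mul, inv_mul_cancel, map_one]
        have h4 : rho F a * rho F a⁻¹ = 1 := by rw [← map_mul, mul_inv_cancel, map_one]
        calc rho F a⁻¹ * del F z = rho F a⁻¹ * (del F z * rho F a) * rho F a⁻¹ := by
              rw [Matrix.mul_assoc, Matrix.mul_assoc (del F z), h4, Matrix.mul_one]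
          _ = _ := by rw [← h1, ← Matrix.mul_assoc, h3, Matrix.one_mul] }) ?_ g
  · exact h z
  · intro r hr t z
    rw [rho_xs' hr, adM_xs]
    exact del_x' hr t z

/-- **conjugation, over every field** -/
theorem del_L' (g : Gh F) (z : chevE7.Idx → F) : del F (L F g z) = rho F g * del F z * rho F g⁻¹ := by
  rw [L_adM, Matrix.toLin'_apply, del_equi' g z, Matrix.mul_assoc, ← map_mul, mul_inv_cancel, map_one, Matrix.mul_one]

end Cfsg.Agent.R2.T2.Alg
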