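import Cfsg.Agent.R2.T2.Alg.Conj

/-!
# S5929: the Lie algebra of type `E₇` as an algebra of matrices (helper4)

`LR F` : the range of `del F`, a submodule of the `56 × 56` matrices.
* `br_mem` : closed under the commutator, over every field;
* `cube_mem` : closed under `A ↦ A ^ 3` if `3 = 0`;
* `sq_mem` : closed under `A ↦ A ^ 2` if `2 = 0`; `one_mem` : contains the scalars if `2 = 0`;
* `trace_mul` : `trace (A * B) = 0` if `3 = 0`; `trace_mem` : `trace A = 0`, over every field;
* `conj_mem` : closed under conjugation by the group.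
-/

set_option autoImplicit false
set_option maxRecDepth 100000

namespace Cfsg.Agent.R2.T2.Alg

open Cfsg Cfsg.Lie Matrix
open Cfsg.Agent.ChevalleyStructure.RootVec
open Cfsg.Agent.R2.T1 Cfsg.Agent.R2.PX Cfsg.Agent.R2.T1.Mu
open Cfsg.Agent.H943.E7V.Block (D1 rho)

universe u

/-- the Lie algebra, as a space of matrices -/
noncomputable def LR (F : Type u) [Field F] : Submodule F (Matrix D1 D1 F) := LinearMap.range (del F)

variable {F : Type u} [Field F]

theorem mem_LR {M : Matrix D1 D1 F} : M ∈ LR F ↔ ∃ z, del F z = M := LinearMap.mem_range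

theorem del_mem (z : chevE7.Idx → F) : del F z ∈ LR F := ⟨z, rfl⟩

theorem NM_mem {r : ℕ} (hr : r < 126) : NM F r ∈ LR F := ⟨_, del_inr ⟨r, hr⟩⟩

theorem Hi_mem {i : ℕ} (hi : i < 7) : Hi F i ∈ LR F := ⟨_, del_inl ⟨i, hi⟩⟩

theorem Hd_mem (r : ℕ) : Hd F r ∈ LR F := by
  rw [Hd_eq]
  exact Submodule.sum_mem _ fun i _ => Submodule.smul_mem _ _ (Hi_mem i.2)

theorem csM_mem {r s : ℕ} (hr : r < 126) (hs : s < 126) : csM F r s ∈ LR F := by
  by_cases h0 : lk (PC.getD r 0) s = 0
  · rw [csM_zero h0]
    exact Submodule.zero_mem _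
  · rw [csM_ne h0]
    rcases PC_spec hr hs with ⟨h5, -⟩ | ⟨-, -, h5, -, -⟩
    · exact absurd h5 h0
    · exact Submodule.smul_mem _ _ (NM_mem h5)

theorem LR_le {S : Submodule F (Matrix D1 D1 F)} (h1 : ∀ i < 7, Hi F i ∈ S) (h2 : ∀ r < 126, NM F r ∈ S) : LR F ≤ S := by
  rintro _ ⟨z, rfl⟩
  rw [del_apply]
  exact Submodule.add_mem _ (Submodule.sum_mem _ fun i _ => Submodule.smul_mem _ _ (h1 i i.2))
    (Submodule.sum_mem _ fun s _ => Submodule.smul_mem _ _ (h2 s s.2))

theorem Hi_Hi (i j : ℕ) : Hi F i * Hi F j = Hi F j * Hi F i := by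
  unfold Hi
  rw [Matrix.diagonal_mul_diagonal, Matrix.diagonal_mul_diagonal]
  congr 1
  funext b
  rw [mul_comm]

/-- `B ↦ A B - B A` -/
noncomputable def adL (A : Matrix D1 D1 F) : Matrix D1 D1 F →ₗ[F] Matrix D1 D1 F := LinearMap.mulLeft F A - LinearMap.mulRight F A

theorem adL_apply (A B : Matrix D1 D1 F) : adL A B = A * B - B * A := rfl

theorem br_NM' {r : ℕ} (hr : r < 126) {B : Matrix D1 D1 F} (hB : B ∈ LR F) : NM F r * B - B * NM F r ∈ LR F := by
  have h : LR F ≤ (LR F).comap (adL (NM F r)) := by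
    refine LR_le (fun i hi => ?_) fun s hs => ?_
    · rw [Submodule.mem_comap, adL_apply]
      have h1 := Hi_comm (F := F) hr hi
      have h3 : NM F r * Hi F i - Hi F i * NM F r = -(((chevE7.cartan i r : ℤ) : F) • NM F r) := by rw [← h1]; abel
      rw [h3]
      exact Submodule.neg_mem _ (Submodule.smul_mem _ _ (NM_mem hr))
    · rw [Submodule.mem_comap, adL_apply]
      by_cases h4 : s = 125 - r
      · subst h4
        rw [NM_comm_neg hr]
        exact Hd_mem r
      · rw [NM_comm hr hs h4]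
        exact csM_mem hr hs
  exact h hB

theorem br_Hi' {i : ℕ} (hi : i < 7) {B : Matrix D1 D1 F} (hB : B ∈ LR F) : Hi F i * B - B * Hi F i ∈ LR F := by
  have h : LR F ≤ (LR F).comap (adL (Hi F i)) := by
    refine LR_le (fun j hj => ?_) fun s hs => ?_
    · rw [Submodule.mem_comap, adL_apply, Hi_Hi, sub_self]
      exact Submodule.zero_mem _
    · rw [Submodule.mem_comap, adL_apply, Hi_comm hs hi]
      exact Submodule.smul_mem _ _ (NM_mem hs)
  exact h hB

/-- **closed under the commutator, over every field** -/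
theorem br_mem {A B : Matrix D1 D1 F} (hA : A ∈ LR F) (hB : B ∈ LR F) : A * B - B * A ∈ LR F := by
  have h : LR F ≤ (LR F).comap (adL B) := by
    refine LR_le (fun j hj => ?_) fun s hs => ?_
    · rw [Submodule.mem_comap, adL_apply]
      have := Submodule.neg_mem _ (br_Hi' hj hB)
      rwa [neg_sub] at this
    · rw [Submodule.mem_comap, adL_apply]
      have := Submodule.neg_mem _ (br_NM' hs hB)
      rwa [neg_sub] at this
  have h1 : adL B A ∈ LR F := h hA
  have h3 := Submodule.neg_mem _ h1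
  rw [adL_apply, neg_sub] at h3
  exact h3

/-! ### powers -/

theorem chkC : (W56.all fun b => (List.range 7).all fun i =>
    decide (chevE8.cartan i b = 0) || (decide (chevE8.cartan i b = 1) || decide (chevE8.cartan i b = -1))) = true := by
  decide +kernel

theorem cartan_cases {i : ℕ} (hi : i < 7) (b : D1) : chevE8.cartan i (nn b) = 0 ∨ chevE8.cartan i (nn b) = 1 ∨
    chevE8.cartan i (nn b) = -1 := by
  have h := List.all_eq_true.1 (List.all_eq_true.1 chkC (nn b) (nn_mem b)) i (List.mem_range.2 hi)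
  simpa using h

theorem Hi_cube {i : ℕ} (hi : i < 7) : Hi F i * Hi F i * Hi F i = Hi F i := by
  unfold Hi
  rw [Matrix.diagonal_mul_diagonal, Matrix.diagonal_mul_diagonal]
  congr 1
  funext b
  rcases cartan_cases hi b with h | h | h <;> rw [h] <;> simp

theorem Hi_sq (h2 : (2 : F) = 0) {i : ℕ} (hi : i < 7) : Hi F i * Hi F i = Hi F i := by
  unfold Hi
  rw [Matrix.diagonal_mul_diagonal]
  congr 1
  funext b
  rcases cartan_cases hi b with h | h | h
  · rw [h]; simp
  · rw [h]; simp
  · rw [h]
    push_cast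
    linear_combination h2

/-- **cubes in characteristic 3** -/
theorem cube_mem (h3 : (3 : F) = 0) {A : Matrix D1 D1 F} (hA : A ∈ LR F) : A * A * A ∈ LR F := by
  let S : Submodule F (Matrix D1 D1 F) :=
    { carrier := {A | A ∈ LR F ∧ A * A * A ∈ LR F}
      zero_mem' := ⟨Submodule.zero_mem _, by rw [mul_zero]; exact Submodule.zero_mem _⟩
      add_mem' := by
        rintro A B ⟨hA, hA3⟩ ⟨hB, hB3⟩
        refine ⟨Submodule.add_mem _ hA hB, ?_⟩
        have e : (A + B) * (A + B) * (A + B) = A * A * A + B * B * B + (A * (A * B - B * A) - (A * B - B * A) * A) +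
            (B * (B * A - A * B) - (B * A - A * B) * B) + (3 : F) • (A * B * A + B * A * B) := by
          have e1 : (3 : F) • (A * B * A + B * A * B) = (A * B * A + B * A * B) + (A * B * A + B * A * B) +
              (A * B * A + B * A * B) := by
            rw [show (3 : F) = 1 + 1 + 1 by norm_num, add_smul, add_smul, one_smul]
          rw [e1]
          noncomm_ring
        rw [e, h3, zero_smul, add_zero]
        exact Submodule.add_mem _ (Submodule.add_mem _ (Submodule.add_mem _ hA3 hB3) (br_mem hA (br_mem hA hB)))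
          (br_mem hB (br_mem hB hA))
      smul_mem' := by
        rintro c A ⟨hA, hA3⟩
        refine ⟨Submodule.smul_mem _ _ hA, ?_⟩
        have e : (c • A) * (c • A) * (c • A) = (c * c * c) • (A * A * A) := by
          rw [smul_mul_smul_comm, smul_mul_smul_comm]
        rw [e]
        exact Submodule.smul_mem _ _ hA3 }
  have h : LR F ≤ S := by
    refine LR_le (fun i hi => ⟨Hi_mem hi, ?_⟩) fun s hs => ⟨NM_mem hs, ?_⟩
    · rw [Hi_cube hi]
      exact Hi_mem hi
    · rw [NM_mul_self hs, zero_mul]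
      exact Submodule.zero_mem _
  exact (h hA).2

/-- **squares in characteristic 2** -/
theorem sq_mem (h2 : (2 : F) = 0) {A : Matrix D1 D1 F} (hA : A ∈ LR F) : A * A ∈ LR F := by
  let S : Submodule F (Matrix D1 D1 F) :=
    { carrier := {A | A ∈ LR F ∧ A * A ∈ LR F}
      zero_mem' := ⟨Submodule.zero_mem _, by rw [mul_zero]; exact Submodule.zero_mem _⟩
      add_mem' := by
        rintro A B ⟨hA, hA3⟩ ⟨hB, hB3⟩
        refine ⟨Submodule.add_mem _ hA hB, ?_⟩
        have e : (A + B) * (A + B) = A * A + B * B + (A * B - B * A) + (2 : F) • (B * A) := by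
          rw [two_smul]
          noncomm_ring
        rw [e, h2, zero_smul, add_zero]
        exact Submodule.add_mem _ (Submodule.add_mem _ hA3 hB3) (br_mem hA hB)
      smul_mem' := by
        rintro c A ⟨hA, hA3⟩
        refine ⟨Submodule.smul_mem _ _ hA, ?_⟩
        rw [smul_mul_smul_comm]
        exact Submodule.smul_mem _ _ hA3 }
  have h : LR F ≤ S := by
    refine LR_le (fun i hi => ⟨Hi_mem hi, ?_⟩) fun s hs => ⟨NM_mem hs, ?_⟩
    · rw [Hi_sq h2 hi]
      exact Hi_mem hi
    · rw [NM_mul_self hs]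
      exact Submodule.zero_mem _
  exact (h hA).2

/-- the central element in characteristic 2 -/
def zc (i : ℕ) : ℤ := [0, 1, 0, 0, 1, 0, 1].getD i 0

theorem chkZ : (W56.all fun b => decide (((List.range 7).map fun i => zc i * chevE8.cartan i b).sum % 2 = 1)) = true := by
  decide +kernel

theorem sum_Hi (c : ℕ → ℤ) : ∑ i : Fin 7, ((c i : ℤ) : F) • Hi F i =
    Matrix.diagonal fun b => ((((List.range 7).map fun i => c i * chevE8.cartan i (nn b)).sum : ℤ) : F) := by
  refine mat_ext fun b => ?_
  rw [diag_bs, Matrix.sum_mulVec]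
  simp only [Matrix.smul_mulVec, Hi, diag_bs, smul_smul]
  rw [← Finset.sum_smul, sum_range7 (fun i => c i * chevE8.cartan i (nn b)), Int.cast_sum]
  simp only [Int.cast_mul]
  rfl

/-- **the scalars in characteristic 2** -/
theorem one_mem (h2 : (2 : F) = 0) : (1 : Matrix D1 D1 F) ∈ LR F := by
  have e : (1 : Matrix D1 D1 F) = ∑ i : Fin 7, ((zc i : ℤ) : F) • Hi F i := by
    rw [sum_Hi, ← Matrix.diagonal_one]
    congr 1
    funext b
    have h := of_decide_eq_true (List.all_eq_true.1 chkZ (nn b) (nn_mem b))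
    obtain ⟨k, hk⟩ : ∃ k : ℤ, ((List.range 7).map fun i => zc i * chevE8.cartan i (nn b)).sum = 2 * k + 1 := ⟨_, by
      have := Int.mul_ediv_add_emod (((List.range 7).map fun i => zc i * chevE8.cartan i (nn b)).sum) 2
      rw [h] at this
      exact this.symm⟩
    rw [hk]
    push_cast
    linear_combination -((k : ℤ) : F) * h2
  rw [e]
  exact Submodule.sum_mem _ fun i _ => Submodule.smul_mem _ _ (Hi_mem i.2)

/-! ### traces -/

theorem nz_diag {r : ℕ} (hr : r < 126) (b : D1) : nz r b b = 0 := by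
  by_contra h
  obtain ⟨c, h1, -⟩ := nz_ne h
  have h3 := p2_of_mv hr h1
  rw [p2_self] at h3
  omega

theorem trace_NM {r : ℕ} (hr : r < 126) : Matrix.trace (NM F r) = 0 := by
  unfold Matrix.trace
  refine Finset.sum_eq_zero fun b _ => ?_
  show ((nz r b b : ℤ) : F) = 0
  rw [nz_diag hr, Int.cast_zero]

theorem trace_diag (f : ℕ → ℤ) : Matrix.trace (Matrix.diagonal fun b : D1 => ((f (nn b) : ℤ) : F)) = (((W56.map f).sum : ℤ) : F) := by
  rw [Matrix.trace_diagonal, ← sumD1 f, Int.cast_sum]

theorem chkT1 : ((List.range 7).all fun i => decide ((W56.map fun b => chevE8.cartan i b).sum = 0)) = true := by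
  decide +kernel

theorem chkT2 : ((List.range 7).all fun i => (List.range 7).all fun j =>
    decide ((W56.map fun b => chevE8.cartan i b * chevE8.cartan j b).sum % 12 = 0)) = true := by
  decide +kernel

theorem chkT3 : ((List.range 126).all fun r =>
    decide ((W56.map fun b => if (mv r b).isSome then (1 : ℤ) else 0).sum = 12)) = true := by
  decide +kernel

theorem trace_Hi {i : ℕ} (hi : i < 7) : Matrix.trace (Hi F i) = 0 := by
  unfold Hi
  rw [trace_diag (fun b => chevE8.cartan i b), of_decide_eq_true (List.all_eq_true.1 chkT1 i (List.mem_range.2 hi)),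
    Int.cast_zero]

/-- the trace, over every field -/
theorem trace_mem {A : Matrix D1 D1 F} (hA : A ∈ LR F) : Matrix.trace A = 0 := by
  have h : LR F ≤ LinearMap.ker (Matrix.traceLinearMap D1 F F) :=
    LR_le (fun i hi => trace_Hi hi) fun s hs => trace_NM hs
  exact h hA

theorem trace_Hi_Hi (h3 : (12 : F) = 0) {i j : ℕ} (hi : i < 7) (hj : j < 7) : Matrix.trace (Hi F i * Hi F j) = 0 := by
  unfold Hi
  rw [Matrix.diagonal_mul_diagonal]
  have e : (fun b : D1 => ((chevE8.cartan i (nn b) : ℤ) : F) * ((chevE8.cartan j (nn b) : ℤ) : F)) =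
      fun b : D1 => (((fun b => chevE8.cartan i b * chevE8.cartan j b) (nn b) : ℤ) : F) := by
    funext b
    push_cast
    rfl
  rw [e, trace_diag (fun b => chevE8.cartan i b * chevE8.cartan j b)]
  have h := of_decide_eq_true (List.all_eq_true.1 (List.all_eq_true.1 chkT2 i (List.mem_range.2 hi)) j (List.mem_range.2 hj))
  obtain ⟨k, hk⟩ := Int.dvd_of_emod_eq_zero h
  rw [hk]
  push_cast
  rw [h3, zero_mul]

theorem trace_Hi_NM {i s : ℕ} (hs : s < 126) : Matrix.trace (Hi F i * NM F s) = 0 := by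
  unfold Matrix.trace
  refine Finset.sum_eq_zero fun b _ => ?_
  rw [Matrix.diag_apply, Hi, Matrix.diagonal_mul]
  show _ * ((nz s b b : ℤ) : F) = 0
  rw [nz_diag hs, Int.cast_zero, mul_zero]

theorem trace_NM_NM (h3 : (12 : F) = 0) {r s : ℕ} (hr : r < 126) (hs : s < 126) : Matrix.trace (NM F r * NM F s) = 0 := by
  by_cases h : r = 125 - s
  · subst h
    have e : ∀ b : D1, (NM F (125 - s) * NM F s) b b = (((if (mv s (nn b)).isSome then (1 : ℤ) else 0) : ℤ) : F) := by
      intro b
      have h1 := congrFun (NM_neg_NM (F := F) hs b) b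
      rw [Matrix.mulVec_mulVec, bs, Matrix.mulVec_single_one, Matrix.col_apply, Pi.smul_apply, Pi.single_eq_same,
        smul_eq_mul, mul_one] at h1
      rw [h1]
      rcases h5 : mv s (nn b) with _ | x
      · simp
      · simp
    unfold Matrix.trace
    have e2 : ∑ b : D1, (NM F (125 - s) * NM F s).diag b =
        ((∑ b : D1, (fun b => if (mv s b).isSome then (1 : ℤ) else 0) (nn b) : ℤ) : F) := by
      rw [Int.cast_sum]
      exact Finset.sum_congr rfl fun b _ => e b
    rw [e2, sumD1 (fun b => if (mv s b).isSome then (1 : ℤ) else 0),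
      of_decide_eq_true (List.all_eq_true.1 chkT3 s (List.mem_range.2 hs))]
    exact_mod_cast h3
  · unfold Matrix.trace
    refine Finset.sum_eq_zero fun b _ => ?_
    rw [Matrix.diag_apply, Matrix.mul_apply]
    refine Finset.sum_eq_zero fun a _ => ?_
    show ((nz r b a : ℤ) : F) * ((nz s a b : ℤ) : F) = 0
    by_contra hne
    have h1 : nz r b a ≠ 0 := fun h0 => hne (by rw [h0, Int.cast_zero, zero_mul])
    have h2 : nz s a b ≠ 0 := fun h0 => hne (by rw [h0, Int.cast_zero, mul_zero])
    obtain ⟨c, h4, -⟩ := nz_ne h1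
    obtain ⟨d, h5, -⟩ := nz_ne h2
    rcases mv_spec hs b with h6 | ⟨a', c', h6, -, -, h7⟩
    · rw [h6] at h5; exact absurd h5 (by simp)
    · rw [h6, Option.some.injEq, Prod.mk.injEq] at h5
      rw [nn_inj h5.1] at h7
      exact h (mv_unique hr (by omega) h4 h7)

/-- **the trace form is zero if `12 = 0`** -/
theorem trace_mul (h3 : (12 : F) = 0) {A B : Matrix D1 D1 F} (hA : A ∈ LR F) (hB : B ∈ LR F) : Matrix.trace (A * B) = 0 := by
  have k1 : ∀ {i : ℕ}, i < 7 → ∀ {B : Matrix D1 D1 F}, B ∈ LR F → Matrix.trace (Hi F i * B) = 0 := by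
    intro i hi B hB
    have h : LR F ≤ LinearMap.ker ((Matrix.traceLinearMap D1 F F).comp (LinearMap.mulLeft F (Hi F i))) :=
      LR_le (fun j hj => trace_Hi_Hi h3 hi hj) fun s hs => trace_Hi_NM hs
    exact h hB
  have k2 : ∀ {r : ℕ}, r < 126 → ∀ {B : Matrix D1 D1 F}, B ∈ LR F → Matrix.trace (NM F r * B) = 0 := by
    intro r hr B hB
    have h : LR F ≤ LinearMap.ker ((Matrix.traceLinearMap D1 F F).comp (LinearMap.mulLeft F (NM F r))) :=
      LR_le (fun j hj => by
        show Matrix.trace (NM F r * Hi F j) = 0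
        rw [Matrix.trace_mul_comm]
        exact trace_Hi_NM hr) fun s hs => trace_NM_NM h3 hr hs
    exact h hB
  have h : LR F ≤ LinearMap.ker ((Matrix.traceLinearMap D1 F F).comp (LinearMap.mulRight F B)) :=
    LR_le (fun j hj => k1 hj hB) fun s hs => k2 hs hB
  exact h hA

/-! ### conjugation -/

theorem rho_inv_mul'' (g : Gh F) : rho F g⁻¹ * rho F g = 1 := by rw [← map_mul, inv_mul_cancel, map_one]

theorem rho_mul_inv'' (g : Gh F) : rho F g * rho F g⁻¹ = 1 := by rw [← map_mul, mul_inv_cancel, map_one]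

/-- **closed under conjugation, over every field** -/
theorem conj_mem (g : Gh F) {A : Matrix D1 D1 F} (hA : A ∈ LR F) : rho F g * A * rho F g⁻¹ ∈ LR F := by
  obtain ⟨z, rfl⟩ := hA
  rw [← del_L']
  exact del_mem _

/-- `v ↦ v ^ 3` on the adjoint module, characteristic 3 -/
theorem exists_cube (h3 : (3 : F) = 0) (z : chevE7.Idx → F) : ∃ w : chevE7.Idx → F, del F w = del F z * del F z * del F z :=
  cube_mem h3 (del_mem z)

/-- `v ↦ v ^ 2` on the adjoint module, characteristic 2 -/
theorem exists_sq (h2 : (2 : F) = 0) (z : chevE7.Idx → F) : ∃ w : chevE7.Idx → F, del F w = del F z * del F z :=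
  sq_mem h2 (del_mem z)

/-- the scalars, characteristic 2 -/
theorem exists_one (h2 : (2 : F) = 0) : ∃ w : chevE7.Idx → F, del F w = 1 := one_mem h2

end Cfsg.Agent.R2.T2.Alg
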